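import Cfsg.Agent.LargeExtra.W2.PlusHom
import Cfsg.Agent.LargeExtra.W2.Iface
import Cfsg.Agent.LargeExtra.TwoCentral
import Cfsg.Agent.LargeExtra.W2.CType
import Cfsg.Agent.FastGrp
import Cfsg.Agent.Prune
set_option linter.all false

section
prune_inst 0x7f00000000000000000000000000000000000000000000000000000000000000000000000000000000000000000000000000000000000000000000000000000000000000000000000000000000000000003fffffffffffffffffffffffffffbeffbdffffffff

-- part: GTwoThree/Cent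
section
set_option linter.all false
open scoped Cfsg.Agent.FastGrp

/-!
# `Case9c` (centraliser of an involution of `G₂(3)`): the decidable model of `C_G(z)` (helper614)

`K = M × 3 × 3 × 2` with `toG (m, a, b, e) = hom m * x₁ ^ a * x₂ ^ b * y ^ e`; `toG (mul t u v) = toG u * toG v`,
`toG` is injective with range `C_G(z)`; `t = true` iff `y ^ 2 = z`.
-/

set_option autoImplicit false

namespace Cfsg.Agent.GTwoThree.Cent

open Cfsg.Agent.Co2Type.Quad Cfsg.Agent.LargeExtra.Model Cfsg.Agent.LargeExtra.Pres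
open Cfsg.Agent.LargeExtra.W2 Cfsg.Agent.LargeExtra.W2.PlusHom

/-- conjugation by `x₁` in the model -/
def s1 : M →* M := endo mj (mi * mj) mk ml (by decide +kernel)
/-- conjugation by `x₂` in the model -/
def s2 : M →* M := endo mi mj ml (mk * ml) (by decide +kernel)
/-- conjugation by `y` in the model -/
def sy : M →* M := endo (mj * zz) (mi * zz) (ml * zz) (mk * zz) (by decide +kernel)

/-- iterates -/
def it (f : M →* M) : ℕ → M → M
  | 0, x => x
  | n + 1, x => f (it f n x)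

/-- conjugation by `x₁ ^ a x₂ ^ b y ^ e` -/
def act (a b : Fin 3) (e : Fin 2) (x : M) : M := it s1 a.1 (it s2 b.1 (it sy e.1 x))

/-- codes of the elements of `C_G(z)` -/
abbrev K : Type := M × Fin 3 × Fin 3 × Fin 2

/-- sign -/
def sg (e : Fin 2) (a : Fin 3) : Fin 3 := if e = 0 then a else -a

/-- the cocycle -/
def tw (t : Bool) (e f : Fin 2) : M := if t = true ∧ e = 1 ∧ f = 1 then zz else 1

/-- the product of codes -/
def mul (t : Bool) (u v : K) : K :=
  (u.1 * act u.2.1 u.2.2.1 u.2.2.2 v.1 * tw t u.2.2.2 v.2.2.2,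
    u.2.1 + sg u.2.2.2 v.2.1, u.2.2.1 + sg u.2.2.2 v.2.2.1, u.2.2.2 + v.2.2.2)

/-- the code of an element of `Q` -/
def kq (m : M) : K := (m, 0, 0, 0)
/-- the code of `y` -/
def ky : K := (1, 0, 0, 1)
/-- the code of `1` -/
def k1 : K := (1, 0, 0, 0)

/-! fast evaluation of `mul` in the kernel (tables in natural numbers) -/

/-- code of an element of the model -/
def gzE (x : M) : ℕ := Nat.add x.v.1 (cond x.s 16 0)
/-- the element with a given code -/
def gzD (n : ℕ) : M := ⟨⟨Nat.mod n 16, Nat.mod_lt _ (by decide)⟩, Nat.ble 16 n⟩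
/-- table lookup -/
def gzL (T a n : ℕ) : ℕ := Nat.land (Nat.shiftRight T (Nat.mul 5 (Nat.add (Nat.mul 32 a) n))) 31
/-- the multiplication table of the model -/
def gzTM : ℕ := 0x653216d7c654be75cf84443a54c74275b637df88072a90f64e36a6f3ee0c2622d2e6ca17aeb1fe14c1135c95d2f09f3f8d90e01b1e8556d1977d9d9ca30bdab45a9287b9ac18820398a4deb38ffbbca54c700653637dfc654b216d784443e75cf4275b2d2e688072eb1fe4e36aa90f60c2626f3eeca17ab1e8514c1177d9dd2f0935c9590e01f3f8d56d19398a49ca30ffbbc5a928bdab4188207b9acdeb384275be75cf00653a54c7c654b637df84443216d7ca17a6f3ee880722d2e64e36aeb1fe0c262a90f656d19f3f8d14c11b1e85d2f0977d9d90e0135c95deb387b9ac9ca30398a45a928ffbbc18820bdab4e75cfc654ba54c784443637df4275b216d7006536f3ee4e36a2d2e60c262eb1feca17aa90f688072f3f8dd2f09b1e8590e0177d9d56d1935c9514c117b9ac5a928398a418820ffbbcdeb38bdab49ca3084443a54c74275b637df00653216d7c654be75cf0c2622d2e6ca17aeb1fe88072a90f64e36a6f3ee90e01b1e8556d1977d9d14c1135c95d2f09f3f8d18820398a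4deb38ffbbc9ca30bdab45a9287b9ac216d784443e75cf4275ba54c700653637dfc654ba90f60c2626f3eeca17a2d2e688072eb1fe4e36a35c9590e01f3f8d56d19b1e8514c1177d9dd2f09bdab4188207b9acdeb38398a49ca30ffbbc5a928c654b637df84443216d74275be75cf00653a54c74e36aeb1fe0c262a90f6ca17a6f3ee880722d2e6d2f0977d9d90e0135c9556d19f3f8d14c11b1e855a928ffbbc18820bdab4deb387b9ac9ca30398a4637df4275b216d700653e75cfc654ba54c784443eb1feca17aa90f6880726f3ee4e36a2d2e60c26277d9d56d1935c9514c11f3f8dd2f09b1e8590e01ffbbcdeb38bdab49ca307b9ac5a928398a418820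
/-- the table of `act` -/
def gzTA : ℕ := 0xd6f28f7facb5ea410c3052d3873dbc31cb494e20ceb68efbecadae4088704a9786b9fc298f48ca60de748ff7ccbd6c4184505a5587b5dc394d49c640b5ea4d6f28f7fac10c3031cb452d3873dbc94e20adae4ceb68efbec08870298f44a9786b9fc8ca60bd6c4de748ff7cc18450394d45a5587b5dc9c640f7facb5ea4d6f2810c3073dbc31cb452d3894e20efbecadae4ceb68088706b9fc298f44a9788ca60ff7ccbd6c4de748184507b5dc394d45a5589c640d6778b56f4f77fc9467052568314e4735ec10460cef58aded4effdc8ce504ad4829cc46bdcc08c40deb38bdab4ffbbc9ca305a928398a47b9ac18820b56f4f77fcd677894670314e4735ec5256810460aded4effdccef588ce5029cc46bdcc4ad4808c40bdab4ffbbcdeb389ca30398a47b9ac5a92818820f77fcd6778b56f494670735ec52568314e410460effdccef58aded48ce506bdcc4ad4829cc408c40ffbbcdeb38bdab49ca307b9ac5a928398a418820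

private theorem gzDE : ∀ x : M, gzD (gzE x) = x := by decide +kernel

theorem gzE_mul (x y : M) : gzE (x * y) = gzL gzTM (gzE x) (gzE y) := by
  have h1 : ∀ v w : Fin (2 ^ 4), bf rP4 4 v.1 w.1 =
    Nat.beq (Nat.land (Nat.shiftRight 0x33cc996655aaff00c33c6996a55a0ff03c3c96965a5af0f0cccc6666aaaa0000 (Nat.add (Nat.mul 16 v.1) w.1)) 1) 1 := by decide +kernel
  have h2 : ∀ (v w : Fin (2 ^ 4)) (s t : Bool), Nat.beq (Nat.add (Nat.xor v.1 w.1) (cond (s ^^ t ^^
    Nat.beq (Nat.land (Nat.shiftRight 0x33cc996655aaff00c33c6996a55a0ff03c3c96965a5af0f0cccc6666aaaa0000 (Nat.add (Nat.mul 16 v.1) w.1)) 1) 1) 16 0))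
    (gzL gzTM (Nat.add v.1 (cond s 16 0)) (Nat.add w.1 (cond t 16 0))) = true := by decide +kernel
  refine Eq.trans ?_ (Nat.eq_of_beq_eq_true (h2 x.v y.v x.s y.s))
  rw [← h1]
  rfl

private def gzI (T : ℕ) (n : ℕ) (x : ℕ) : ℕ := Nat.rec x (fun _ r => gzL T 0 r) n

private theorem gzI_it {f : M →* M} {T : ℕ} (h : ∀ x, gzE (f x) = gzL T 0 (gzE x)) (x : M) :
    ∀ n, gzE (it f n x) = gzI T n (gzE x)
  | 0 => rfl
  | n + 1 => (h _).trans (congrArg (gzL T 0) (gzI_it h x n))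

theorem gzE_act (a b : Fin 3) (e : Fin 2) (x : M) :
    gzE (act a b e x) = gzL gzTA (Nat.add a.1 (Nat.mul 3 (Nat.add b.1 (Nat.mul 3 e.1)))) (gzE x) := by
  have h1 : ∀ x, gzE (s1 x) = gzL 0xeffdccef58aded48ce506bdcc4ad4829cc408c40 0 (gzE x) := by decide +kernel
  have h2 : ∀ x, gzE (s2 x) = gzL 0xbdab4ffbbcdeb389ca30398a47b9ac5a92818820 0 (gzE x) := by decide +kernel
  have h3 : ∀ x, gzE (sy x) = gzL 0xff7ccbd6c4de748184507b5dc394d45a5589c640 0 (gzE x) := by decide +kernel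
  refine (gzI_it h1 _ _).trans ((congrArg _ ((gzI_it h2 _ _).trans (congrArg _ (gzI_it h3 _ _)))).trans ?_)
  revert a b e x
  decide +kernel

/-- sums of exponents -/
def gzS (a c : Fin 3) (e : Fin 2) : Fin 3 :=
  ⟨Nat.mod (Nat.add a.1 (Nat.mul (Nat.succ e.1) c.1)) 3, Nat.mod_lt _ (by decide)⟩

/-- `mul`, by tables -/
def gzMul (t : Bool) (u v : K) : K :=
  (gzD (gzL gzTM (gzL gzTM (gzE u.1) (gzL gzTA (Nat.add u.2.1.1 (Nat.mul 3 (Nat.add u.2.2.1.1 (Nat.mul 3 u.2.2.2.1))))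
      (gzE v.1))) (cond t (Nat.mul 16 (Nat.mul u.2.2.2.1 v.2.2.2.1)) 0)),
    gzS u.2.1 v.2.1 u.2.2.2, gzS u.2.2.1 v.2.2.1 u.2.2.2,
    ⟨Nat.mod (Nat.add u.2.2.2.1 v.2.2.2.1) 2, Nat.mod_lt _ (by decide)⟩)

theorem mul_eq_gz : mul = gzMul := by
  have h1 : ∀ (t : Bool) (e f : Fin 2), gzE (tw t e f) = cond t (Nat.mul 16 (Nat.mul e.1 f.1)) 0 := by decide +kernel
  have h2 : ∀ (a c : Fin 3) (e : Fin 2), a + sg e c = gzS a c e := by decide +kernel
  funext t u v
  refine Prod.ext ?_ (Prod.ext (h2 _ _ _) (Prod.ext (h2 _ _ _) rfl))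
  refine (gzDE _).symm.trans (congrArg gzD ((gzE_mul _ _).trans ?_))
  exact congrArg₂ (gzL gzTM) ((gzE_mul _ _).trans (congrArg _ (gzE_act _ _ _ _))) (h1 _ _ _)

/-- the product of the model, by a table -/
def gzM (x y : M) : M := gzD (gzL gzTM (gzE x) (gzE y))

theorem mul_eq_gzM (x y : M) : x * y = gzM x y := (gzDE _).symm.trans (congrArg gzD (gzE_mul x y))

/-- `act`, by a table -/
def gzA (a b : Fin 3) (e : Fin 2) (x : M) : M :=
  gzD (gzL gzTA (Nat.add a.1 (Nat.mul 3 (Nat.add b.1 (Nat.mul 3 e.1)))) (gzE x))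

theorem act_eq_gz : act = gzA := by
  funext a b e x
  exact (gzDE _).symm.trans (congrArg gzD (gzE_act a b e x))

section

variable {G : Type*} [Group G] {Q : Subgroup G} {z i j k l x₁ x₂ y : G}

/-- the element with a given code -/
noncomputable def toG (h : Case9c Q z i j k l x₁ x₂ y) (u : K) : G :=
  hom h.toPlus u.1 * x₁ ^ u.2.1.1 * x₂ ^ u.2.2.1.1 * y ^ u.2.2.2.1

variable (h : Case9c Q z i j k l x₁ x₂ y)

include h

theorem x1_hom (x : M) : x₁ * hom h.toPlus x = hom h.toPlus (s1 x) * x₁ := by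
  rw [← mul_inv_eq_iff_eq_mul]
  apply conj_hom h.toPlus h.x₁_act
  · exact hom_j _
  · rw [map_mul, hom_i, hom_j]
  · exact hom_k _
  · exact hom_l _

theorem x2_hom (x : M) : x₂ * hom h.toPlus x = hom h.toPlus (s2 x) * x₂ := by
  rw [← mul_inv_eq_iff_eq_mul]
  apply conj_hom h.toPlus h.x₂_act
  · exact hom_i _
  · exact hom_j _
  · exact hom_l _
  · rw [map_mul, hom_k, hom_l]

theorem y_hom (x : M) : y * hom h.toPlus x = hom h.toPlus (sy x) * y := by
  rw [← mul_inv_eq_iff_eq_mul]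
  apply conj_hom h.toPlus h.y_act
  · rw [map_mul, hom_j, hom_zz]
  · rw [map_mul, hom_i, hom_zz]
  · rw [map_mul, hom_l, hom_zz]
  · rw [map_mul, hom_k, hom_zz]

omit h in
theorem it_hom {g : G} {f : M →* M} {P : Plus Q z i j k l} (hg : ∀ x, g * hom P x = hom P (f x) * g)
    (n : ℕ) (x : M) : g ^ n * hom P x = hom P (it f n x) * g ^ n := by
  induction n with
  | zero => simp [it]
  | succ n ih =>
    rw [pow_succ', mul_assoc, ih, ← mul_assoc, hg, mul_assoc]; rfl

theorem act_hom (a b : Fin 3) (e : Fin 2) (x : M) :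
    x₁ ^ a.1 * x₂ ^ b.1 * y ^ e.1 * hom h.toPlus x =
      hom h.toPlus (act a b e x) * (x₁ ^ a.1 * x₂ ^ b.1 * y ^ e.1) := by
  have h1 := it_hom (y_hom h) e.1 x
  have h2 := it_hom (x2_hom h) b.1 (it sy e.1 x)
  have h3 := it_hom (x1_hom h) a.1 (it s2 b.1 (it sy e.1 x))
  calc x₁ ^ a.1 * x₂ ^ b.1 * y ^ e.1 * hom h.toPlus x
      = x₁ ^ a.1 * x₂ ^ b.1 * (y ^ e.1 * hom h.toPlus x) := by group
    _ = x₁ ^ a.1 * (x₂ ^ b.1 * hom h.toPlus (it sy e.1 x)) * y ^ e.1 := by rw [h1]; group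
    _ = (x₁ ^ a.1 * hom h.toPlus (it s2 b.1 (it sy e.1 x))) * x₂ ^ b.1 * y ^ e.1 := by rw [h2]; group
    _ = _ := by rw [h3]; unfold act; group

omit h in
theorem pow_fin {g : G} (hg : g ^ 3 = 1) (a b : Fin 3) : g ^ (a + b : Fin 3).1 = g ^ a.1 * g ^ b.1 := by
  rw [← pow_add, Fin.val_add]
  conv_rhs => rw [← Nat.div_add_mod (a.1 + b.1) 3, pow_add, pow_mul, hg, one_pow, one_mul]

omit h in
theorem pow_fin_neg {g : G} (hg : g ^ 3 = 1) (a : Fin 3) : g ^ (-a : Fin 3).1 = (g ^ a.1)⁻¹ := by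
  rw [eq_inv_iff_mul_eq_one, ← pow_fin hg]
  simp

theorem y_x1 (a : Fin 3) : y * x₁ ^ a.1 = x₁ ^ (-a : Fin 3).1 * y := by
  rw [pow_fin_neg h.x₁3]
  have h1 : SemiconjBy y x₁ x₁⁻¹ := by
    show y * x₁ = x₁⁻¹ * y
    rw [← h.y1]; group
  have := (h1.pow_right a.1).eq
  rw [this, inv_pow]

theorem y_x2 (a : Fin 3) : y * x₂ ^ a.1 = x₂ ^ (-a : Fin 3).1 * y := by
  rw [pow_fin_neg h.x₂3]
  have h1 : SemiconjBy y x₂ x₂⁻¹ := by
    show y * x₂ = x₂⁻¹ * y
    rw [← h.y2]; group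
  have := (h1.pow_right a.1).eq
  rw [this, inv_pow]

theorem ye_x1 (e : Fin 2) (a : Fin 3) : y ^ e.1 * x₁ ^ a.1 = x₁ ^ (sg e a).1 * y ^ e.1 := by
  fin_cases e
  · simp [sg]
  · have := y_x1 h a
    simpa [sg] using this

theorem ye_x2 (e : Fin 2) (a : Fin 3) : y ^ e.1 * x₂ ^ a.1 = x₂ ^ (sg e a).1 * y ^ e.1 := by
  fin_cases e
  · simp [sg]
  · have := y_x2 h a
    simpa [sg] using this

theorem x1_z : x₁ * z = z * x₁ := by
  have := h.x₁_act.z
  rwa [mul_inv_eq_iff_eq_mul] at this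

theorem x2_z : x₂ * z = z * x₂ := by
  have := h.x₂_act.z
  rwa [mul_inv_eq_iff_eq_mul] at this

theorem y_z : y * z = z * y := by
  have := h.y_act.z
  rwa [mul_inv_eq_iff_eq_mul] at this

/-- the value of `t` -/
def Twist (t : Bool) : Prop := y * y = if t = true then z else 1

omit h in
theorem exists_twist (h : Case9c Q z i j k l x₁ x₂ y) : ∃ t, Twist (z := z) (y := y) t := by
  rcases h.yy with h1 | h1
  · exact ⟨false, by simpa [Twist] using h1⟩
  · exact ⟨true, by simpa [Twist] using h1⟩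

theorem tw_hom {t : Bool} (ht : Twist (z := z) (y := y) t) (e f : Fin 2) :
    y ^ e.1 * y ^ f.1 = hom h.toPlus (tw t e f) * y ^ (e + f : Fin 2).1 := by
  have h1 : hom h.toPlus zz = z := hom_zz _
  unfold Twist at ht
  fin_cases e <;> fin_cases f <;> cases t <;> simp [tw, h1, ht] at *

theorem tw_comm (t : Bool) (e f : Fin 2) {g : G} (hg : g * z = z * g) :
    g * hom h.toPlus (tw t e f) = hom h.toPlus (tw t e f) * g := by
  unfold tw
  split_ifs
  · rw [hom_zz]; exact hg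
  · simp

theorem toG_mul {t : Bool} (ht : Twist (z := z) (y := y) t) (u v : K) :
    toG h (mul t u v) = toG h u * toG h v := by
  obtain ⟨m, a, b, e⟩ := u
  obtain ⟨m', a', b', e'⟩ := v
  show hom h.toPlus (m * act a b e m' * tw t e e') * x₁ ^ (a + sg e a' : Fin 3).1 * x₂ ^ (b + sg e b' : Fin 3).1 *
      y ^ (e + e' : Fin 2).1 = (hom h.toPlus m * x₁ ^ a.1 * x₂ ^ b.1 * y ^ e.1) *
      (hom h.toPlus m' * x₁ ^ a'.1 * x₂ ^ b'.1 * y ^ e'.1)
  have e0 := act_hom h a b e m'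
  have e1 := ye_x1 h e a'
  have e2 := ye_x2 h e b'
  have e3 := tw_hom h ht e e'
  have c1 : ∀ a b : ℕ, x₂ ^ a * x₁ ^ b = x₁ ^ b * x₂ ^ a := fun a b =>
    (((show Commute x₁ x₂ from h.xx).pow_pow b a).eq).symm
  have c2 := tw_comm h t e e' (g := x₁ ^ (a + sg e a' : Fin 3).1 * x₂ ^ (b + sg e b' : Fin 3).1)
    ((((show Commute x₁ z from x1_z h).pow_left _).mul_left ((show Commute x₂ z from x2_z h).pow_left _)).eq)
  rw [map_mul, map_mul]
  symm
  calc (hom h.toPlus m * x₁ ^ a.1 * x₂ ^ b.1 * y ^ e.1) * (hom h.toPlus m' * x₁ ^ a'.1 * x₂ ^ b'.1 * y ^ e'.1)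
      = hom h.toPlus m * (x₁ ^ a.1 * x₂ ^ b.1 * y ^ e.1 * hom h.toPlus m') * x₁ ^ a'.1 * x₂ ^ b'.1 * y ^ e'.1 := by
        group
    _ = hom h.toPlus m * hom h.toPlus (act a b e m') * (x₁ ^ a.1 * x₂ ^ b.1) * (y ^ e.1 * x₁ ^ a'.1) *
          x₂ ^ b'.1 * y ^ e'.1 := by rw [e0]; group
    _ = hom h.toPlus m * hom h.toPlus (act a b e m') * x₁ ^ a.1 * (x₂ ^ b.1 * x₁ ^ (sg e a').1) *
          (y ^ e.1 * x₂ ^ b'.1) * y ^ e'.1 := by rw [e1]; group
    _ = hom h.toPlus m * hom h.toPlus (act a b e m') * (x₁ ^ a.1 * x₁ ^ (sg e a').1) *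
          (x₂ ^ b.1 * x₂ ^ (sg e b').1) * (y ^ e.1 * y ^ e'.1) := by rw [c1, e2]; group
    _ = hom h.toPlus m * hom h.toPlus (act a b e m') * (x₁ ^ (a + sg e a' : Fin 3).1 *
          x₂ ^ (b + sg e b' : Fin 3).1 * hom h.toPlus (tw t e e')) * y ^ (e + e' : Fin 2).1 := by
        rw [e3, pow_fin h.x₁3, pow_fin h.x₂3]; group
    _ = _ := by rw [c2]; group

theorem toG_kq (m : M) : toG h (kq m) = hom h.toPlus m := by
  simp [toG, kq]

theorem toG_ky : toG h ky = y := by
  simp [toG, ky]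

theorem toG_k1 : toG h k1 = 1 := by
  simp [toG, k1]

theorem toG_comm (u : K) : toG h u * z = z * toG h u := by
  have h1 : Commute (hom h.toPlus u.1) z := h.large.comm_z _ (hom_mem h.toPlus u.1)
  have h2 : Commute x₁ z := x1_z h
  have h3 : Commute x₂ z := x2_z h
  have h4 : Commute y z := y_z h
  exact (((h1.mul_left (h2.pow_left _)).mul_left (h3.pow_left _)).mul_left (h4.pow_left _)).eq

/-- code of the inverse -/
theorem exists_inv {t : Bool} (ht : Twist (z := z) (y := y) t) (u : K) : ∃ v, toG h v = (toG h u)⁻¹ := by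
  -- the powers of `toG u`
  have hp : ∀ n : ℕ, ∃ v, toG h v = toG h u ^ n := by
    intro n
    induction n with
    | zero => exact ⟨k1, by rw [toG_k1, pow_zero]⟩
    | succ n ih =>
      obtain ⟨v, hv⟩ := ih
      exact ⟨mul t v u, by rw [toG_mul h ht, hv, pow_succ]⟩
  -- finite order by pigeonhole
  have hfin : ∃ a b : ℕ, a < b ∧ toG h u ^ a = toG h u ^ b := by
    choose f hf using hp
    obtain ⟨a, b, hab, he⟩ := Finite.exists_ne_map_eq_of_infinite f
    rcases lt_or_gt_of_ne hab with h1 | h1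
    · exact ⟨a, b, h1, by rw [← hf, ← hf, he]⟩
    · exact ⟨b, a, h1, by rw [← hf, ← hf, he]⟩
  obtain ⟨a, b, hab, he⟩ := hfin
  obtain ⟨v, hv⟩ := hp (b - a - 1)
  refine ⟨v, ?_⟩
  rw [hv, eq_inv_iff_mul_eq_one, ← pow_succ]
  have : b - a - 1 + 1 = b - a := by omega
  rw [this]
  have h1 : toG h u ^ a * toG h u ^ (b - a) = toG h u ^ a * 1 := by
    rw [← pow_add, mul_one, he]
    congr 1; omega
  exact mul_left_cancel h1

/-- every element of `C_G(z)` has a code -/
theorem exists_code {c : G} (hc : c * z = z * c) : ∃ u, toG h u = c := by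
  obtain ⟨t, ht⟩ := exists_twist h
  have hc' : c ∈ Subgroup.closure ({i, j, k, l, x₁, x₂, y} : Set G) := by
    rw [← h.cent]; exact Subgroup.mem_centralizer_singleton_iff.2 hc
  have hgen : ∀ x ∈ ({i, j, k, l, x₁, x₂, y} : Set G), ∃ u, toG h u = x := by
    intro x hx
    have hx' : x = i ∨ x = j ∨ x = k ∨ x = l ∨ x = x₁ ∨ x = x₂ ∨ x = y := by simpa using hx
    rcases hx' with rfl | rfl | rfl | rfl | rfl | rfl | rfl
    · exact ⟨kq mi, by rw [toG_kq, hom_i]⟩
    · exact ⟨kq mj, by rw [toG_kq, hom_j]⟩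
    · exact ⟨kq mk, by rw [toG_kq, hom_k]⟩
    · exact ⟨kq ml, by rw [toG_kq, hom_l]⟩
    · exact ⟨(1, 1, 0, 0), by simp [toG]⟩
    · exact ⟨(1, 0, 1, 0), by simp [toG]⟩
    · exact ⟨ky, toG_ky h⟩
  induction hc' using Subgroup.closure_induction with
  | mem x hx => exact hgen x hx
  | one => exact ⟨k1, toG_k1 h⟩
  | mul x y' hx hy hx' hy' =>
    have hm : ∀ w ∈ Subgroup.closure ({i, j, k, l, x₁, x₂, y} : Set G), w * z = z * w := by
      intro w hw
      rw [← h.cent] at hw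
      exact Subgroup.mem_centralizer_singleton_iff.1 hw
    obtain ⟨u, hu⟩ := hx' (hm x hx)
    obtain ⟨v, hv⟩ := hy' (hm y' hy)
    exact ⟨mul t u v, by rw [toG_mul h ht, hu, hv]⟩
  | inv x hx hx' =>
    have hm : ∀ w ∈ Subgroup.closure ({i, j, k, l, x₁, x₂, y} : Set G), w * z = z * w := by
      intro w hw
      rw [← h.cent] at hw
      exact Subgroup.mem_centralizer_singleton_iff.1 hw
    obtain ⟨u, hu⟩ := hx' (hm x hx)
    obtain ⟨v, hv⟩ := exists_inv h ht u
    exact ⟨v, by rw [hv, hu]⟩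

omit [Group G] h in
theorem card_K : Nat.card K = 576 := by
  rw [Nat.card_eq_fintype_card]; decide +kernel

theorem toG_injective : Function.Injective (toG h) := by
  have hs : Function.Surjective (fun u : K => (⟨toG h u, Subgroup.mem_centralizer_singleton_iff.2 (toG_comm h u)⟩ :
      Subgroup.centralizer ({z} : Set G))) := by
    rintro ⟨c, hc⟩
    obtain ⟨u, hu⟩ := exists_code h (Subgroup.mem_centralizer_singleton_iff.1 hc)
    exact ⟨u, Subtype.ext hu⟩
  have hfin : Finite (Subgroup.centralizer ({z} : Set G)) := Finite.of_surjective _ hs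
  have hb : Function.Bijective (fun u : K => (⟨toG h u, Subgroup.mem_centralizer_singleton_iff.2 (toG_comm h u)⟩ :
      Subgroup.centralizer ({z} : Set G))) := by
    rw [Nat.bijective_iff_surjective_and_card]
    exact ⟨hs, by rw [card_K, h.card_cent]⟩
  intro u v huv
  exact hb.1 (Subtype.ext huv)

theorem toG_inj {u v : K} : toG h u = toG h v ↔ u = v := (toG_injective h).eq_iff

end

end Cfsg.Agent.GTwoThree.Cent

private theorem dce_8b67dfd6bb6c : _root_.True := by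
  try have : _root_.True := by simp only [_root_.Cfsg.Agent.LargeExtra.W2.PlusHom.hom.congr_simp]
  try have : _root_.True := by simp only [_root_.Cfsg.Agent.GTwoThree.Cent.it.eq_2]
  try have : _root_.True := by simp only [_root_.Cfsg.Agent.GTwoThree.Cent.toG.eq_1]
  try have : _root_.True := by simp only [_root_.Cfsg.Agent.GTwoThree.Cent.it.eq_def]
  try have : _root_.True := by simp only [_root_.Cfsg.Agent.GTwoThree.Cent.it.eq_1]
  try have : _root_.True := by simp only [_root_.Cfsg.Agent.GTwoThree.Cent.Twist.eq_1]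
  try have : _root_.True := by simp only [_root_.Cfsg.Agent.GTwoThree.Cent.k1.eq_1]
  try have : _root_.True := by simp only [_root_.Cfsg.Agent.GTwoThree.Cent.ky.eq_1]
  try have : _root_.True := by simp only [_root_.Cfsg.Agent.GTwoThree.Cent.sg.eq_1]
  try have : _root_.True := by simp only [_root_.Cfsg.Agent.GTwoThree.Cent.kq.eq_1]
  try have : _root_.True := by simp only [_root_.Cfsg.Agent.GTwoThree.Cent.tw.eq_1]
  exact _root_.True.intro
end

-- part: GTwoThree/Fusion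
section
set_option linter.all false
open scoped Cfsg.Agent.FastGrp

/-!
# `Case9c`: one class of involutions, the four-group `⟨z, y⟩` (helper614)

`G` finite simple: `y ^ 2 = 1`, `y` is conjugate to `z`, `C_G(z) ∩ C_G(y) = ⟨z, y, d⟩`, `d = i j k l`, and there is
`g` of order three with `z → y → z y`.
-/

set_option autoImplicit false

namespace Cfsg.Agent.GTwoThree.Fusion

open Cfsg.Agent.Co2Type.Quad Cfsg.Agent.LargeExtra.Model Cfsg.Agent.LargeExtra.Pres
open Cfsg.Agent.LargeExtra Cfsg.Agent.LargeExtra.Base Cfsg.Agent.LargeExtra.W2 Cfsg.Agent.LargeExtra.W2.PlusHom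
open Cfsg.Agent.GTwoThree.Cent

/-- the element `d = i j k l` of the model -/
def dm : M := mi * mj * (mk * ml)

set_option maxRecDepth 100000 in
theorem dec_twist : ∀ u : K, mul true u u = k1 → u = kq u.1 := by
  rw [mul_eq_gz]
  decide +kernel

set_option maxRecDepth 100000 in
theorem dec_in : ∀ u : K, mul false u u = k1 → u.2.2.2 = 0 → u = kq u.1 := by
  rw [mul_eq_gz]
  decide +kernel

set_option maxRecDepth 100000 in
theorem dec_outer : ∀ u : K, mul false u u = k1 → u.2.2.2 = 1 →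
    ∃ m : M, mul false (m, -u.2.1, -u.2.2.1, 0) ky = mul false u (m, -u.2.1, -u.2.2.1, 0) := by
  rw [mul_eq_gz]
  decide +kernel

set_option maxRecDepth 100000 in
theorem dec_dQ : ∀ m : M, m * m = 1 → m ≠ 1 → m ≠ zz → ∃ a b : Fin 3, ∃ n : M,
    mul false (n, a, b, 0) (kq dm) = mul false (kq m) (n, a, b, 0) := by
  rw [mul_eq_gz]
  decide +kernel

set_option maxRecDepth 100000 in
theorem dec_cy : ∀ u : K, mul false u ky = mul false ky u →
    ∃ e : Fin 2, u = (1, 0, 0, e) ∨ u = (zz, 0, 0, e) ∨ u = (dm, 0, 0, e) ∨ u = (dm * zz, 0, 0, e) := by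
  rw [mul_eq_gz]
  decide +kernel

set_option maxRecDepth 100000 in
theorem dec_pq : ∀ m : M, m * m = 1 → m ≠ 1 → m ≠ zz → ∃ p q : M, p * p = 1 ∧ q * q = 1 ∧ p * m = m * p ∧
    q * m = m * q ∧ p * q = q * p * zz := by decide +kernel

section

variable {G : Type*} [Group G] {Q : Subgroup G} {z i j k l x₁ x₂ y : G}

theorem conj_sq {g t : G} (ht : t * t = 1) : g * t * g⁻¹ * (g * t * g⁻¹) = 1 := by
  calc g * t * g⁻¹ * (g * t * g⁻¹) = g * (t * t) * g⁻¹ := by group
    _ = 1 := by rw [ht]; group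

theorem noncomm (h : Case9c Q z i j k l x₁ x₂ y) : ¬ IsMulCommutative G := by
  rintro ⟨⟨hc⟩⟩
  have h1 := h.ji
  rw [hc j i] at h1
  exact h.large.z_ne (by simpa using h1)

/-- codes of involutions -/
theorem code_sq (h : Case9c Q z i j k l x₁ x₂ y) {t : Bool} (ht : Twist (z := z) (y := y) t) {u : K}
    (hu : toG h u * toG h u = 1) : mul t u u = k1 := by
  rw [← toG_inj h, toG_mul h ht, hu, toG_k1]

/-- Case II: a conjugate `a ≠ z` of `z` in `Q` gives an outer involution in `Q ^ g`. -/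
theorem outer_of_pair (h : Case9c Q z i j k l x₁ x₂ y) {A : Subgroup G} {a : G} (p : Pair Q z A a) :
    ∃ t ∈ A, t * t = 1 ∧ t * z = z * t ∧ t ∉ Q := by
  obtain ⟨g, g1, g2, g3, -⟩ := p.isConj
  obtain ⟨m, hm⟩ := exists_hom h.toPlus p.a_mem
  have ha2 : a * a = 1 := by
    rw [← g1]; exact conj_sq h.large.z_sq
  have hm2 : m * m = 1 := by
    rw [← hom_eq_iff h.toPlus, map_mul, hm, ha2, map_one]
  have hm1 : m ≠ 1 := by
    rintro rfl
    rw [map_one] at hm
    apply h.large.z_ne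
    have : z = g⁻¹ * a * g := by rw [← g1]; group
    rw [this, ← hm]; group
  have hmz : m ≠ zz := by
    rintro rfl
    rw [hom_zz] at hm
    exact p.ne hm.symm
  obtain ⟨p', q', e1, e2, e3, e4, e5⟩ := dec_pq m hm2 hm1 hmz
  have hinv : ∀ n : M, n * n = 1 → n * m = m * n →
      g * hom h.toPlus n * g⁻¹ ∈ A ∧ (g * hom h.toPlus n * g⁻¹) * (g * hom h.toPlus n * g⁻¹) = 1 ∧
      (g * hom h.toPlus n * g⁻¹) * z = z * (g * hom h.toPlus n * g⁻¹) := by
    intro n hn hnm
    refine ⟨?_, ?_, ?_⟩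
    · rw [g3]
      exact ⟨_, hom_mem h.toPlus n, rfl⟩
    · apply conj_sq
      rw [← map_mul, hn, map_one]
    · have : hom h.toPlus n * a = a * hom h.toPlus n := by
        rw [← hm, ← map_mul, ← map_mul, hnm]
      calc g * hom h.toPlus n * g⁻¹ * z = g * hom h.toPlus n * g⁻¹ * (g * a * g⁻¹) := by rw [g2]
        _ = g * (hom h.toPlus n * a) * g⁻¹ := by group
        _ = g * (a * hom h.toPlus n) * g⁻¹ := by rw [this]
        _ = (g * a * g⁻¹) * (g * hom h.toPlus n * g⁻¹) := by group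
        _ = z * (g * hom h.toPlus n * g⁻¹) := by rw [g2]
  obtain ⟨a1, a2, a3⟩ := hinv p' e1 e3
  obtain ⟨b1, b2, b3⟩ := hinv q' e2 e4
  by_cases hp : g * hom h.toPlus p' * g⁻¹ ∈ Q
  · by_cases hq : g * hom h.toPlus q' * g⁻¹ ∈ Q
    · exfalso
      have h1 : hom h.toPlus p' * hom h.toPlus q' = hom h.toPlus q' * hom h.toPlus p' * z := by
        rw [← map_mul, e5, map_mul, map_mul, hom_zz]
      have h2 : g * hom h.toPlus p' * g⁻¹ * (g * hom h.toPlus q' * g⁻¹) =
          g * hom h.toPlus q' * g⁻¹ * (g * hom h.toPlus p' * g⁻¹) * a := by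
        rw [← g1]
        calc g * hom h.toPlus p' * g⁻¹ * (g * hom h.toPlus q' * g⁻¹)
            = g * (hom h.toPlus p' * hom h.toPlus q') * g⁻¹ := by group
          _ = _ := by rw [h1]; group
      rcases h.large.comm _ hp _ hq with h3 | h3
      · rw [h3] at h2
        have h4 : a = 1 := by simpa using h2
        apply p.la.z_ne h4
      · rw [h3] at h2
        exact p.ne (mul_left_cancel h2).symm
    · exact ⟨_, b1, b2, b3, hq⟩
  · exact ⟨_, a1, a2, a3, hp⟩

/-- outer involutions are conjugate to `y` (untwisted case) -/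
theorem exists_outer_conj (h : Case9c Q z i j k l x₁ x₂ y) (hy : y * y = 1) {t : G} (ht : t * t = 1)
    (htz : t * z = z * t) (htQ : t ∉ Q) : ∃ c, c * z = z * c ∧ c * y * c⁻¹ = t := by
  have hT : Twist (z := z) (y := y) false := by simpa [Twist] using hy
  obtain ⟨u, rfl⟩ := exists_code h htz
  have h1 := code_sq h hT ht
  have h2 : u.2.2.2 = 1 := by
    by_contra hne
    have h3 : u.2.2.2 = 0 := by omega
    have h4 := dec_in u h1 h3
    apply htQ
    rw [h4, toG_kq]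
    exact hom_mem _ _
  obtain ⟨m, hm⟩ := dec_outer u h1 h2
  refine ⟨toG h (m, -u.2.1, -u.2.2.1, 0), toG_comm h _, ?_⟩
  rw [← toG_inj h, toG_mul h hT, toG_mul h hT, toG_ky] at hm
  rw [hm]; group

theorem hom_dm (P : Plus Q z i j k l) : hom P dm = i * j * (k * l) := by
  simp only [dm, map_mul, hom_i, hom_j, hom_k, hom_l]

/-- noncentral involutions of `Q` are conjugate to `d` -/
theorem exists_conj_d (h : Case9c Q z i j k l x₁ x₂ y) (hy : y * y = 1) {t : G} (ht : t * t = 1)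
    (htQ : t ∈ Q) (ht1 : t ≠ 1) (htz : t ≠ z) : ∃ c, c * z = z * c ∧ c * (i * j * (k * l)) * c⁻¹ = t := by
  have hT : Twist (z := z) (y := y) false := by simpa [Twist] using hy
  obtain ⟨m, rfl⟩ := exists_hom h.toPlus htQ
  have hm2 : m * m = 1 := by
    rw [← hom_eq_iff h.toPlus, map_mul, ht, map_one]
  have hm1 : m ≠ 1 := by
    rintro rfl
    exact ht1 (map_one _)
  have hmz : m ≠ zz := by
    rintro rfl
    exact htz (hom_zz _)
  obtain ⟨a, b, n, hn⟩ := dec_dQ m hm2 hm1 hmz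
  refine ⟨toG h (n, a, b, 0), toG_comm h _, ?_⟩
  rw [← toG_inj h, toG_mul h hT, toG_mul h hT, toG_kq, toG_kq, hom_dm] at hn
  rw [hn]; group

/-- `|C_Q(t)| = 4` for outer involutions `t`. -/
theorem card_outer (h : Case9c Q z i j k l x₁ x₂ y) {t : G} (ht : t * t = 1)
    (htz : t * z = z * t) (htQ : t ∉ Q) : Nat.card ↥(Q ⊓ Subgroup.centralizer ({t} : Set G)) = 4 := by
  rcases h.yy with hy | hy
  · obtain ⟨c, hc, rfl⟩ := exists_outer_conj h hy ht htz htQ
    have h4 : Nat.card ↥(Q ⊓ Subgroup.centralizer ({y} : Set G)) = 4 :=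
      CType.card_four h.toPlus (y_z h) hy (Or.inr h.y_act.i) (Or.inr h.y_act.k)
    rw [← h4]
    symm
    refine Nat.card_congr (Equiv.ofBijective (fun q : ↥(Q ⊓ Subgroup.centralizer ({y} : Set G)) =>
      (⟨c * q.1 * c⁻¹, h.large.conj_mem c hc _ q.2.1, ?_⟩ :
        ↥(Q ⊓ Subgroup.centralizer ({c * y * c⁻¹} : Set G)))) ⟨?_, ?_⟩)
    · have hq := Subgroup.mem_centralizer_singleton_iff.1 q.2.2
      apply Subgroup.mem_centralizer_singleton_iff.2
      calc c * q.1 * c⁻¹ * (c * y * c⁻¹) = c * (q.1 * y) * c⁻¹ := by group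
        _ = _ := by rw [hq]; group
    · intro q q' hqq
      have h1 : c * q.1 * c⁻¹ = c * q'.1 * c⁻¹ := congrArg Subtype.val hqq
      exact Subtype.ext (mul_left_cancel (mul_right_cancel h1))
    · rintro ⟨q, hq, hqc⟩
      have hcz : c⁻¹ * z = z * c⁻¹ := by
        calc c⁻¹ * z = c⁻¹ * (z * c) * c⁻¹ := by group
          _ = z * c⁻¹ := by rw [← hc]; group
      have h1 : c⁻¹ * q * c ∈ Q := by
        have := h.large.conj_mem c⁻¹ hcz q hq
        rwa [inv_inv] at this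
      have h2 : c⁻¹ * q * c ∈ Subgroup.centralizer ({y} : Set G) := by
        apply Subgroup.mem_centralizer_singleton_iff.2
        have h3 : q * (c * y * c⁻¹) = c * y * c⁻¹ * q := Subgroup.mem_centralizer_singleton_iff.1 hqc
        calc c⁻¹ * q * c * y = c⁻¹ * (q * (c * y * c⁻¹)) * c := by group
          _ = _ := by rw [h3]; group
      refine ⟨⟨c⁻¹ * q * c, h1, h2⟩, Subtype.ext ?_⟩
      show c * (c⁻¹ * q * c) * c⁻¹ = q
      group
  · exfalso
    have hT : Twist (z := z) (y := y) true := by simpa [Twist] using hy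
    obtain ⟨u, rfl⟩ := exists_code h htz
    have h1 := dec_twist u (code_sq h hT ht)
    apply htQ
    rw [h1, toG_kq]
    exact hom_mem _ _

variable [Finite G] [IsSimpleGroup G]

/-- Case II holds. -/
theorem exists_pair (h : Case9c Q z i j k l x₁ x₂ y) : ∃ (A : Subgroup G) (a : G), Pair Q z A a := by
  by_cases hI : ∀ g : G, g * z * g⁻¹ ∈ Q → g * z * g⁻¹ = z
  · exfalso
    refine case_one_dead (noncomm h) h.large h.card hI fun g hg hgQ => ?_
    exact card_outer h (conj_sq h.large.z_sq) hg hgQ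
  · push Not at hI
    obtain ⟨g, hg1, hg2⟩ := hI
    exact ⟨_, _, Base.pair_of_conj h.large hg1 hg2⟩

/-- `y ^ 2 = 1` -/
theorem yy_one (h : Case9c Q z i j k l x₁ x₂ y) : y * y = 1 := by
  rcases h.yy with hy | hy
  · exact hy
  · exfalso
    obtain ⟨A, a, p⟩ := exists_pair h
    obtain ⟨t, -, ht, htz, htQ⟩ := outer_of_pair h p
    have hT : Twist (z := z) (y := y) true := by simpa [Twist] using hy
    obtain ⟨u, rfl⟩ := exists_code h htz
    have h1 := dec_twist u (code_sq h hT ht)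
    apply htQ
    rw [h1, toG_kq]
    exact hom_mem _ _

/-- `z` is conjugate to `y` and to `d` -/
theorem exists_conj (h : Case9c Q z i j k l x₁ x₂ y) :
    (∃ g, g * z * g⁻¹ = y) ∧ ∃ g, g * z * g⁻¹ = i * j * (k * l) := by
  have hy := yy_one h
  obtain ⟨A, a, p⟩ := exists_pair h
  obtain ⟨t, htA, ht, htz, htQ⟩ := outer_of_pair h p
  obtain ⟨g, g1, g2, g3, -⟩ := p.isConj
  obtain ⟨c, hc, hct⟩ := exists_outer_conj h hy ht htz htQ
  have ha2 : a * a = 1 := by
    rw [← g1]; exact conj_sq h.large.z_sq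
  have ha1 : a ≠ 1 := p.la.z_ne
  obtain ⟨e, he, hed⟩ := exists_conj_d h hy ha2 p.a_mem ha1 p.ne
  -- `z ~ a ~ d`
  have hd : e⁻¹ * g * z * (e⁻¹ * g)⁻¹ = i * j * (k * l) := by
    calc e⁻¹ * g * z * (e⁻¹ * g)⁻¹ = e⁻¹ * (g * z * g⁻¹) * e := by group
      _ = e⁻¹ * (e * (i * j * (k * l)) * e⁻¹) * e := by rw [g1, hed]
      _ = _ := by group
  refine ⟨?_, _, hd⟩
  -- `t ~ d`
  rw [g3] at htA
  obtain ⟨s, hs, hst⟩ := htA
  have hst' : g * s * g⁻¹ = t := hst
  have hs2 : s * s = 1 := by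
    have : s = g⁻¹ * t * g⁻¹⁻¹ := by rw [← hst']; group
    rw [this]; exact conj_sq ht
  have ht1 : t ≠ 1 := by
    rintro rfl
    exact htQ Q.one_mem
  have hs1 : s ≠ 1 := by
    rintro rfl
    apply ht1
    rw [← hst']; group
  have hsz : s ≠ z := by
    rintro rfl
    apply htQ
    rw [← hst', g1]
    exact p.a_mem
  obtain ⟨f, hf, hfd⟩ := exists_conj_d h hy hs2 hs hs1 hsz
  refine ⟨c⁻¹ * g * f * (e⁻¹ * g), ?_⟩
  calc c⁻¹ * g * f * (e⁻¹ * g) * z * (c⁻¹ * g * f * (e⁻¹ * g))⁻¹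
      = c⁻¹ * (g * (f * (e⁻¹ * g * z * (e⁻¹ * g)⁻¹) * f⁻¹) * g⁻¹) * c := by group
    _ = c⁻¹ * t * c := by rw [hd, hfd, hst']
    _ = y := by rw [← hct]; group

/-- every involution commuting with `z` is conjugate to `z` -/
theorem one_class (h : Case9c Q z i j k l x₁ x₂ y) {t : G} (ht : t * t = 1) (ht1 : t ≠ 1)
    (htz : t * z = z * t) : ∃ g, g * z * g⁻¹ = t := by
  have hy := yy_one h
  obtain ⟨⟨g1, hg1⟩, g2, hg2⟩ := exists_conj h
  by_cases htQ : t ∈ Q
  · by_cases htz' : t = z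
    · exact ⟨1, by rw [htz']; group⟩
    · obtain ⟨c, -, hc⟩ := exists_conj_d h hy ht htQ ht1 htz'
      refine ⟨c * g2, ?_⟩
      rw [← hc, ← hg2]; group
  · obtain ⟨c, -, hc⟩ := exists_outer_conj h hy ht htz htQ
    refine ⟨c * g1, ?_⟩
    rw [← hc, ← hg1]; group

end

end Cfsg.Agent.GTwoThree.Fusion

private theorem dce_daf65b17cb48 : _root_.True := by
  try have : _root_.True := by simp only [_root_.Cfsg.Agent.GTwoThree.Fusion.dm.eq_1]
  try have : _root_.True := by simp only [_root_.Cfsg.Agent.GTwoThree.Cent.toG.congr_simp]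
  exact _root_.True.intro
end

-- part: GTwoThree/Sub
section
set_option linter.all false
open scoped Cfsg.Agent.FastGrp

/-!
# `Case9c` for a subgroup containing `C_G(z)`; one class of involutions (helper614)
-/

set_option autoImplicit false

namespace Cfsg.Agent.GTwoThree.Sub

open Cfsg.Agent.Co2Type.Quad Cfsg.Agent.LargeExtra Cfsg.Agent.LargeExtra.W2 Cfsg.Agent.LargeExtra.W2.PlusHom
open Cfsg.Agent.GTwoThree.Cent Cfsg.Agent.GTwoThree.Fusion

variable {G : Type*} [Group G] {Q : Subgroup G} {z i j k l x₁ x₂ y : G}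

theorem comm_of_gen (h : Case9c Q z i j k l x₁ x₂ y) {x : G}
    (hx : x ∈ ({i, j, k, l, x₁, x₂, y} : Set G)) : x ∈ Subgroup.centralizer ({z} : Set G) := by
  rw [h.cent]; exact Subgroup.subset_closure hx

theorem closure_sub {H : Subgroup G} {S : Set G} (hS : ∀ x ∈ S, x ∈ H) {K : Subgroup G}
    (hK : K = Subgroup.closure S) :
    K.subgroupOf H = Subgroup.closure {x : H | (x : G) ∈ S} := by
  apply Subgroup.map_injective H.subtype_injective
  rw [MonoidHom.map_closure, Subgroup.subgroupOf, Subgroup.map_comap_eq, Subgroup.range_subtype, hK]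
  have h1 : (H.subtype : H → G) '' {x : H | (x : G) ∈ S} = S := by
    ext x
    constructor
    · rintro ⟨w, hw, rfl⟩; exact hw
    · intro hx; exact ⟨⟨x, hS x hx⟩, hx, rfl⟩
  have h2 : Subgroup.closure ((H.subtype : H → G) '' {x : H | (x : G) ∈ S}) = Subgroup.closure S := by rw [h1]
  rw [h2]
  apply inf_eq_right.2
  rw [Subgroup.closure_le]
  exact hS

theorem sub (h : Case9c Q z i j k l x₁ x₂ y) (H : Subgroup G)
    (hC : Subgroup.centralizer ({z} : Set G) ≤ H) :
    ∃ z' i' j' k' l' x₁' x₂' y' : H, (z' : G) = z ∧ (y' : G) = y ∧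
      Case9c (Q.subgroupOf H) z' i' j' k' l' x₁' x₂' y' := by
  have hg : ∀ x ∈ ({i, j, k, l, x₁, x₂, y} : Set G), x ∈ H := fun x hx => hC (comm_of_gen h hx)
  have hz : z ∈ H := hC (Subgroup.mem_centralizer_singleton_iff.2 rfl)
  have hQH : Q ≤ H := fun q hq => hC (Subgroup.mem_centralizer_singleton_iff.2 (h.large.comm_z q hq))
  have hmem : ∀ x : H, x ∈ Q.subgroupOf H ↔ (x : G) ∈ Q := fun x => Subgroup.mem_subgroupOf
  refine ⟨⟨z, hz⟩, ⟨i, hg i (by simp)⟩, ⟨j, hg j (by simp)⟩, ⟨k, hg k (by simp)⟩, ⟨l, hg l (by simp)⟩,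
    ⟨x₁, hg x₁ (by simp)⟩, ⟨x₂, hg x₂ (by simp)⟩, ⟨y, hg y (by simp)⟩, rfl, rfl, ?_⟩
  have hcz : Subgroup.centralizer ({(⟨z, hz⟩ : H)} : Set H) = (Subgroup.centralizer ({z} : Set G)).subgroupOf H := by
    ext x
    rw [Subgroup.mem_subgroupOf, Subgroup.mem_centralizer_singleton_iff, Subgroup.mem_centralizer_singleton_iff]
    exact Subtype.ext_iff
  exact
    { large :=
        { z_mem := (hmem _).2 h.large.z_mem
          z_ne := fun e => h.large.z_ne (congrArg Subtype.val e)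
          z_sq := Subtype.ext h.large.z_sq
          comm_z := fun x hx => Subtype.ext (h.large.comm_z x ((hmem x).1 hx))
          conj_mem := fun g hg x hx => (hmem _).2 (h.large.conj_mem g (congrArg Subtype.val hg) x ((hmem x).1 hx))
          sq := fun x hx => (h.large.sq x ((hmem x).1 hx)).imp (fun e => Subtype.ext e) (fun e => Subtype.ext e)
          comm := fun x hx w hw => (h.large.comm x ((hmem x).1 hx) w ((hmem w).1 hw)).imp
            (fun e => Subtype.ext e) (fun e => Subtype.ext e)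
          cent := fun x hx hc => (h.large.cent x ((hmem x).1 hx) fun w hw =>
            congrArg Subtype.val (hc ⟨w, hQH hw⟩ ((hmem _).2 hw))).imp (fun e => Subtype.ext e) (fun e => Subtype.ext e)
          self := fun g hg hc => (hmem g).2 (h.large.self g (congrArg Subtype.val hg) fun w hw =>
            congrArg Subtype.val (hc ⟨w, hQH hw⟩ ((hmem _).2 hw))) }
      card := by rw [Nat.card_congr (Subgroup.subgroupOfEquivOfLe hQH).toEquiv, h.card]
      gen := by
        rw [closure_sub (S := ({i, j, k, l} : Set G)) (fun x hx => hQH (by rw [h.gen]; exact Subgroup.subset_closure hx)) h.gen]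
        congr 1
        ext x
        simp only [Set.mem_setOf_eq, Set.mem_insert_iff, Set.mem_singleton_iff, Subtype.ext_iff]
      ii := Subtype.ext h.ii
      jj := Subtype.ext h.jj
      kk := Subtype.ext h.kk
      ll := Subtype.ext h.ll
      ji := Subtype.ext h.ji
      lk := Subtype.ext h.lk
      ki := Subtype.ext h.ki
      li := Subtype.ext h.li
      kj := Subtype.ext h.kj
      lj := Subtype.ext h.lj
      x₁3 := Subtype.ext h.x₁3
      x₂3 := Subtype.ext h.x₂3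
      x₁_act := ⟨Subtype.ext h.x₁_act.z, Subtype.ext h.x₁_act.i, Subtype.ext h.x₁_act.j, Subtype.ext h.x₁_act.k,
        Subtype.ext h.x₁_act.l⟩
      x₂_act := ⟨Subtype.ext h.x₂_act.z, Subtype.ext h.x₂_act.i, Subtype.ext h.x₂_act.j, Subtype.ext h.x₂_act.k,
        Subtype.ext h.x₂_act.l⟩
      y_act := ⟨Subtype.ext h.y_act.z, Subtype.ext h.y_act.i, Subtype.ext h.y_act.j, Subtype.ext h.y_act.k,
        Subtype.ext h.y_act.l⟩
      xx := Subtype.ext h.xx
      y1 := Subtype.ext h.y1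
      y2 := Subtype.ext h.y2
      yy := h.yy.imp (fun e => Subtype.ext e) (fun e => Subtype.ext e)
      cent := by
        rw [hcz, closure_sub (S := ({i, j, k, l, x₁, x₂, y} : Set G)) hg h.cent]
        congr 1
        ext x
        simp only [Set.mem_setOf_eq, Set.mem_insert_iff, Set.mem_singleton_iff, Subtype.ext_iff]
      card_cent := by
        rw [hcz, Nat.card_congr (Subgroup.subgroupOfEquivOfLe hC).toEquiv, h.card_cent] }

/-- **F1**: one class of involutions. -/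
theorem isConj_z [Finite G] [IsSimpleGroup G] (h : Case9c Q z i j k l x₁ x₂ y) {t : G} (ht : t * t = 1)
    (ht1 : t ≠ 1) : ∃ g, g * z * g⁻¹ = t := by
  have : Fact (Nat.Prime 2) := ⟨Nat.prime_two⟩
  -- a Sylow 2-subgroup inside `C_G(z)`
  obtain ⟨T₀, hT₀⟩ : ∃ T₀ : Sylow 2 G, (T₀ : Subgroup G) ≤ Subgroup.centralizer ({z} : Set G) := by
    obtain ⟨T, hT⟩ := (Base.isPGroup h.large).exists_le_sylow
    exact ⟨T, TwoCentral.le_centralizer_of_two h.large T.2 hT⟩
  have hp : IsPGroup 2 (Subgroup.zpowers t) := by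
    apply IsPGroup.of_card (n := 1)
    rw [Nat.card_zpowers, pow_one]
    exact orderOf_eq_prime (by rw [pow_two, ht]) ht1
  obtain ⟨T, hT⟩ := hp.exists_le_sylow
  obtain ⟨c, hc⟩ := MulAction.exists_smul_eq G T T₀
  have h1 : c * t * c⁻¹ ∈ (T₀ : Subgroup G) := by
    rw [← hc]
    have : t ∈ (T : Subgroup G) := hT (Subgroup.mem_zpowers t)
    show c * t * c⁻¹ ∈ (c • T : Sylow 2 G)
    rw [Sylow.smul_def] at *
    exact ⟨t, this, rfl⟩
  have h2 := Subgroup.mem_centralizer_singleton_iff.1 (hT₀ h1)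
  have h3 : c * t * c⁻¹ ≠ 1 := by
    intro e
    apply ht1
    calc t = c⁻¹ * (c * t * c⁻¹) * c := by group
      _ = 1 := by rw [e]; group
  obtain ⟨g, hg⟩ := one_class h (conj_sq ht) h3 h2
  refine ⟨c⁻¹ * g, ?_⟩
  calc c⁻¹ * g * z * (c⁻¹ * g)⁻¹ = c⁻¹ * (g * z * g⁻¹) * c := by group
    _ = t := by rw [hg]; group

/-- A simple subgroup containing `C_G(z)` has one class of involutions. -/
theorem one_class_sub [Finite G] (h : Case9c Q z i j k l x₁ x₂ y) (H : Subgroup G)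
    (hC : Subgroup.centralizer ({z} : Set G) ≤ H) (hH : IsSimpleGroup H) :
    ∀ x ∈ H, orderOf x = 2 → ∃ g ∈ H, g * z * g⁻¹ = x := by
  intro x hx hx2
  obtain ⟨z', i', j', k', l', x₁', x₂', y', hz, -, h'⟩ := sub h H hC
  have h1 : (⟨x, hx⟩ : H) * ⟨x, hx⟩ = 1 := by
    apply Subtype.ext
    show x * x = 1
    rw [← pow_two, ← hx2, pow_orderOf_eq_one]
  have h2 : (⟨x, hx⟩ : H) ≠ 1 := by
    intro e
    have : x = 1 := congrArg Subtype.val e
    rw [this, orderOf_one] at hx2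
    omega
  obtain ⟨g, hg⟩ := isConj_z h' h1 h2
  refine ⟨g, g.2, ?_⟩
  have := congrArg Subtype.val hg
  rw [← hz]
  exact this

end Cfsg.Agent.GTwoThree.Sub
end
end
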